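import Mathlib
import Groth.Agent.H23.FFDescent

/-!
# A separated scheme receiving an integral surjection with finite fibres is affine over the base

Let `Spec B → Y → Spec R` be a surjection followed by a separated morphism such that `R → B` is
integral and a given prime `p` has finitely many primes above it. After the flat base change to a
local ring over which suitable monic polynomials split, `Y` is a finite disjoint union of clopen
pieces, each contained in an affine open, hence affine; affineness then descends.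
-/

set_option autoImplicit false

universe u

open CategoryTheory CategoryTheory.Limits AlgebraicGeometry TopologicalSpace Polynomial
open scoped TensorProduct

namespace Groth.Agent.ZCImage

/-- A clopen subset contained in an affine open is an affine open. -/
theorem isAffineOpen_of_isClosed {Y : Scheme.{u}} {U V : Y.Opens} (hU : IsAffineOpen U)
    (hVU : V ≤ U) (hV : IsClosed (V : Set Y)) : IsAffineOpen V := by
  have : IsAffine U := hU
  have hr : IsClosed (Set.range (Y.homOfLE hVU)) := by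
    have : Set.range (Y.homOfLE hVU) = U.ι ⁻¹' (V : Set Y) := by
      rw [← Scheme.Hom.coe_opensRange, Scheme.opensRange_homOfLE]
      rfl
    rw [this]
    exact hV.preimage U.ι.continuous
  have : IsClosedImmersion (Y.homOfLE hVU) := IsClosedImmersion.of_isPreimmersion _ hr
  exact isAffine_of_isAffineHom (Y.homOfLE hVU)

/-- The criterion over a local base: the labels of the maximal points of a closed irreducible
subset are constant, as soon as the separating elements satisfy split polynomials over the base. -/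
theorem isAffine_of_labels {R T : CommRingCat.{u}} [IsLocalRing R] (φ : R ⟶ T)
    (hφ : φ.hom.IsIntegral) {Y : Scheme.{u}} (F : Spec T ⟶ Y) [Surjective F]
    (hF : IsClosedMap F) {ι : Type u} [Finite ι] (U : ι → Y.Opens) (hU : ∀ l, IsAffineOpen (U l))
    (b : ι → T) (lab : ∀ x : Spec T, x.asIdeal.IsMaximal → ι)
    (hmem : ∀ x hx, F x ∈ U (lab x hx)) (hb : ∀ x hx l, b l ∉ x.asIdeal ↔ lab x hx = l)
    (hsep : ∀ x hx x' hx', F x = F x' → lab x hx = lab x' hx')
    (hroots : ∀ l, ∃ a : Multiset R, (a.map fun c => b l - φ.hom c).prod = 0) : IsAffine Y := by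
  classical
  choose a ha using hroots
  let Z : ι → Set (Spec T) := fun l =>
    ⋃ c ∈ (a l).toFinset.filter (fun c => c ∉ IsLocalRing.maximalIdeal R),
      PrimeSpectrum.zeroLocus {b l - φ.hom c}
  have hZc : ∀ l, IsClosed (Z l) := fun l =>
    isClosed_biUnion_finset fun c _ => PrimeSpectrum.isClosed_zeroLocus _
  have hmax : ∀ (M : Spec T), M.asIdeal.IsMaximal → ∀ c : R,
      (φ.hom c ∈ M.asIdeal ↔ c ∈ IsLocalRing.maximalIdeal R) := by
    intro M hM c
    have := Ideal.isMaximal_comap_of_isIntegral_of_isMaximal' φ.hom hφ M.asIdeal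
    rw [← IsLocalRing.eq_maximalIdeal this, Ideal.mem_comap]
  have hspec : ∀ {x x' : Spec T}, x ⤳ x' ↔ x.asIdeal ≤ x'.asIdeal := fun {x x'} =>
    (PrimeSpectrum.le_iff_specializes (x : PrimeSpectrum T) x').symm
  have hmaxx : ∀ x : Spec T, ∃ M : Spec T, M.asIdeal.IsMaximal ∧ x ⤳ M := by
    intro x
    obtain ⟨M, hM, hle⟩ := Ideal.exists_le_maximal x.asIdeal x.isPrime.ne_top
    exact ⟨⟨M, hM.isPrime⟩, hM, hspec.mpr hle⟩
  have hZ : ∀ (x : Spec T) l, x ∈ Z l → ∀ (M : Spec T) (hM : M.asIdeal.IsMaximal), x ⤳ M →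
      lab M hM = l := by
    intro x l hx M hM hxM
    simp only [Z, Set.mem_iUnion, Finset.mem_filter] at hx
    obtain ⟨c, ⟨-, hc⟩, hxc⟩ := hx
    have h1 : b l - φ.hom c ∈ M.asIdeal := hspec.mp hxM (Set.singleton_subset_iff.mp hxc)
    rw [← hb M hM l]
    intro h2
    exact hc ((hmax M hM c).mp (by simpa using M.asIdeal.sub_mem h2 h1))
  have hcov : ∀ x : Spec T, ∃ l, x ∈ Z l := by
    intro x
    obtain ⟨M, hM, hxM⟩ := hmaxx x
    refine ⟨lab M hM, ?_⟩
    obtain ⟨d, hd, hdx⟩ := (x.isPrime.multiset_prod_mem_iff_exists_mem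
      ((a (lab M hM)).map fun c => b (lab M hM) - φ.hom c)).mp (by rw [ha]; exact x.asIdeal.zero_mem)
    obtain ⟨c, hc, rfl⟩ := Multiset.mem_map.mp hd
    simp only [Z, Set.mem_iUnion, Finset.mem_filter, Multiset.mem_toFinset]
    refine ⟨c, ⟨hc, fun hcm => ?_⟩, Set.singleton_subset_iff.mpr hdx⟩
    exact (hb M hM _).mpr rfl (by
      simpa using M.asIdeal.add_mem (hspec.mp hxM hdx) ((hmax M hM c).mpr hcm))
  -- the images are disjoint
  let W : ι → Set Y := fun l => F '' Z l
  have hdisj : ∀ l l', l ≠ l' → Disjoint (W l) (W l') := by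
    intro l l' hne
    rw [Set.disjoint_left]
    rintro _ ⟨x, hx, rfl⟩ ⟨x', hx', he⟩
    obtain ⟨M, hM, hxM⟩ := hmaxx x
    have hz : F x' ⤳ F M := by rw [he]; exact hxM.map F.continuous
    obtain ⟨w, hw, hwM⟩ := hF.specializingMap hz
    obtain ⟨M', hM', hwM'⟩ := hmaxx w
    have hcl : IsClosed ({F M} : Set Y) := by
      rw [← Set.image_singleton]
      exact hF _ ((PrimeSpectrum.isClosed_singleton_iff_isMaximal (M : PrimeSpectrum T)).mpr hM)
    have hFM : F M' = F M := by
      have h := (hwM'.map F.continuous)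
      rw [hwM] at h
      exact h.mem_closed hcl rfl
    exact hne ((hZ x l hx M hM hxM).symm.trans ((hsep M hM M' hM' hFM.symm).trans
      (hZ x' l' hx' M' hM' (hw.trans hwM'))))
  have hWU : ∀ l, W l ⊆ U l := by
    rintro l _ ⟨x, hx, rfl⟩
    obtain ⟨M, hM, hxM⟩ := hmaxx x
    have h := hZ x l hx M hM hxM
    exact (hxM.map F.continuous).mem_open (U l).isOpen (h ▸ hmem M hM)
  have hWcov : ∀ y : Y, ∃ l, y ∈ W l := by
    intro y
    obtain ⟨x, rfl⟩ := F.surjective y
    obtain ⟨l, hl⟩ := hcov x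
    exact ⟨l, x, hl, rfl⟩
  have hWo : ∀ l, IsOpen (W l) := by
    intro l
    have : (W l)ᶜ = ⋃ (l' : ι) (_ : l' ≠ l), W l' := by
      ext y
      simp only [Set.mem_compl_iff, Set.mem_iUnion]
      constructor
      · intro hy
        obtain ⟨l', hl'⟩ := hWcov y
        exact ⟨l', fun h => hy (h ▸ hl'), hl'⟩
      · rintro ⟨l', hne, hl'⟩ hy
        exact Set.disjoint_left.mp (hdisj l' l hne) hl' hy
    rw [← isClosed_compl_iff, this]
    exact Set.Finite.isClosed_biUnion (Set.toFinite {l' | l' ≠ l})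
      fun l' _ => hF _ (hZc l')
  let O : ι → Y.Opens := fun l => ⟨W l, hWo l⟩
  have hO : ∀ l, IsAffineOpen (O l) := fun l =>
    isAffineOpen_of_isClosed (hU l) (hWU l) (hF _ (hZc l))
  have htop : iSup O = ⊤ := by
    rw [eq_top_iff]
    intro y _
    obtain ⟨l, hl⟩ := hWcov y
    exact Opens.mem_iSup.mpr ⟨l, hl⟩
  have h := IsAffineOpen.iSup_of_disjoint hO fun l l' hne => by
    rw [Function.onFun, ← Opens.coe_disjoint]
    exact hdisj l l' hne
  rw [htop] at h
  haveI : IsAffine (⊤ : Y.Opens) := h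
  exact isAffine_of_isAffineHom (Scheme.topIso Y).inv

/-- Around a prime `p` with finite fibre there is a flat base change, hitting `p`, after which `Y`
becomes affine. -/
theorem exists_flat_isAffineHom {R B : CommRingCat.{u}} (ψ : R ⟶ B) (hψ : ψ.hom.IsIntegral)
    {Y : Scheme.{u}} (f : Spec B ⟶ Y) (g : Y ⟶ Spec R) [Surjective f] [IsSeparated g]
    (hfg : f ≫ g = Spec.map ψ) (p : Spec R) (hfin : Set.Finite ((Spec.map ψ).base ⁻¹' {p})) :
    ∃ (R' : CommRingCat.{u}) (φ : R ⟶ R'), Flat (Spec.map φ) ∧ p ∈ Set.range (Spec.map φ) ∧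
      IsAffineHom (pullback.snd g (Spec.map φ)) := by
  classical
  have : IsIntegralHom (Spec.map ψ) := IsIntegralHom.SpecMap_iff.mpr hψ
  have hint : IsIntegralHom (f ≫ g) := hfg ▸ this
  have : IsIntegralHom f := IsIntegralHom.of_comp f g
  letI := ψ.hom.toAlgebra
  haveI : Algebra.IsIntegral R B := ⟨hψ⟩
  let F₀ : Finset (Spec B) := hfin.toFinset
  have hF₀ : ∀ x, x ∈ F₀ ↔ Spec.map ψ x = p := fun x => by simp [F₀]
  let ι := {y : Y // y ∈ F₀.image f.base}
  choose U hUa hmemU using fun l : ι => (by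
    obtain ⟨V, hV, hlV, -⟩ := exists_isAffineOpen_mem_and_subset (x := l.1) (U := ⊤) trivial
    exact ⟨V, hV, hlV⟩ : ∃ V : Y.Opens, IsAffineOpen V ∧ l.1 ∈ V)
  have hsepel : ∀ l : ι, ∃ b : B, ∀ x ∈ F₀, (b ∉ x.asIdeal ↔ f x = l.1) := by
    intro l
    let J : Ideal B := (F₀.filter fun x => f x ≠ l.1).inf fun x => x.asIdeal
    let s := F₀.filter fun x => f x = l.1
    have hne : ¬ (J : Set B) ⊆ ⋃ x ∈ (s : Set (Spec B)), (x.asIdeal : Set B) := by
      obtain ⟨x₀, hx₀, -⟩ := Finset.mem_image.mp l.2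
      rw [Ideal.subset_union_prime x₀ x₀ fun x _ _ _ => x.isPrime]
      rintro ⟨x, hx, hle⟩
      obtain ⟨hx1, hx2⟩ := Finset.mem_filter.mp hx
      obtain ⟨x', hx', hle'⟩ := (Ideal.IsPrime.inf_le' x.isPrime).mp hle
      obtain ⟨hx'1, hx'2⟩ := Finset.mem_filter.mp hx'
      refine hx'2 ?_
      rcases hle'.eq_or_lt with h | h
      · rw [PrimeSpectrum.ext h, hx2]
      · exfalso
        haveI := x'.isPrime
        have h1 := Ideal.comap_lt_comap_of_integral_mem_sdiff (R := R) (S := B) hle'
          (Classical.choose_spec (Set.exists_of_ssubset h)) (Algebra.IsIntegral.isIntegral _)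
        refine h1.ne ?_
        have h2 := ((hF₀ x').mp hx'1).trans ((hF₀ x).mp hx1).symm
        exact congrArg PrimeSpectrum.asIdeal h2
    obtain ⟨b, hbJ, hbs⟩ := Set.not_subset.mp hne
    refine ⟨b, fun x hx => ⟨fun hbx => ?_, fun he hbx => hbs ?_⟩⟩
    · by_contra hne'
      exact hbx (Finset.inf_le (f := fun x : Spec B => x.asIdeal)
        (Finset.mem_filter.mpr ⟨hx, hne'⟩) hbJ)
    · exact Set.mem_biUnion (Finset.mem_filter.mpr ⟨hx, he⟩) hbx
  choose b hb using hsepel
  choose P hPm hP using fun l => (hψ (b l))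
  let Q : R[X] := ∏ l, P l
  have hQm : Q.Monic := monic_prod_of_monic _ _ fun l _ => hPm l
  haveI : Nontrivial R := by
    by_contra h
    rw [not_nontrivial_iff_subsingleton] at h
    exact p.isPrime.ne_top (Subsingleton.elim _ _)
  obtain ⟨S, _, _, _, _, _, hsplit⟩ := hQm.exists_splits_map
  obtain ⟨P', hP'⟩ := PrimeSpectrum.comap_surjective_of_faithfullyFlat (A := R) (B := S) p
  let R' : CommRingCat.{u} := CommRingCat.of (Localization.AtPrime P'.asIdeal)
  haveI : IsLocalRing R' := inferInstanceAs (IsLocalRing (Localization.AtPrime P'.asIdeal))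
  haveI : Module.Flat R R' := Module.Flat.trans R S (Localization.AtPrime P'.asIdeal)
  let φ : R ⟶ R' := CommRingCat.ofHom (algebraMap R (Localization.AtPrime P'.asIdeal))
  have hcl : Spec.map φ (IsLocalRing.closedPoint R') = p := by
    rw [← hP']
    apply PrimeSpectrum.ext
    show Ideal.comap (algebraMap R (Localization.AtPrime P'.asIdeal)) _ = Ideal.comap _ _
    rw [IsScalarTower.algebraMap_eq R S (Localization.AtPrime P'.asIdeal), ← Ideal.comap_comap]
    congr 1
    exact IsLocalization.AtPrime.comap_maximalIdeal _ _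
  refine ⟨R', φ, Flat.SpecMap_iff.mpr (RingHom.flat_algebraMap_iff.mpr inferInstance),
    ⟨_, hcl⟩, ?_⟩
  let T : CommRingCat.{u} := CommRingCat.of (B ⊗[R] R')
  let Yp := pullback g (Spec.map φ)
  let e : pullback (f ≫ g) (Spec.map φ) ≅ Spec T :=
    pullback.congrHom hfg rfl ≪≫ pullbackSpecIso R B R'
  let F : Spec T ⟶ Yp :=
    e.inv ≫ (pullbackRightPullbackFstIso g (Spec.map φ) f).inv ≫ pullback.snd f _
  let i₁ : B ⟶ T := CommRingCat.ofHom Algebra.TensorProduct.includeLeftRingHom
  let i₂ : R' ⟶ T := CommRingCat.ofHom (Algebra.TensorProduct.includeRight : _ →ₐ[R] B ⊗[R] R').toRingHom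
  have hFfst : F ≫ pullback.fst g _ = Spec.map i₁ ≫ f := by
    simp only [F, Category.assoc, ← pullback.condition, e, Iso.trans_inv, pullback.congrHom_inv]
    rw [pullbackRightPullbackFstIso_inv_fst_assoc, pullback.lift_fst_assoc, Category.comp_id]
    exact pullbackSpecIso_inv_fst_assoc R B R' f
  have hFsnd : F ≫ pullback.snd g _ = Spec.map i₂ := by
    simp only [F, Category.assoc, e, Iso.trans_inv, pullback.congrHom_inv]
    rw [pullbackRightPullbackFstIso_inv_snd_snd, pullback.lift_snd, Category.comp_id]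
    exact pullbackSpecIso_inv_snd R B R'
  haveI : Surjective F := inferInstance
  haveI : IsIntegralHom F := inferInstance
  haveI : IsSeparated (pullback.snd g (Spec.map φ)) := inferInstance
  have hi₂ : i₂.hom.IsIntegral := by
    rw [← IsIntegralHom.SpecMap_iff, ← hFsnd]
    have : F ≫ pullback.snd g _ = e.inv ≫ pullback.snd (f ≫ g) _ := by
      simp [F]
    rw [this]
    infer_instance
  haveI : IsAffineHom (pullback.fst g (Spec.map φ)) :=
    MorphismProperty.pullback_fst _ _ inferInstance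
  have hlab : ∀ x : Spec T, x.asIdeal.IsMaximal → Spec.map i₁ x ∈ F₀ := by
    intro x hx
    rw [hF₀, ← hcl]
    have hc : Spec.map i₂ x = IsLocalRing.closedPoint R' := by
      apply PrimeSpectrum.ext
      haveI := Ideal.isMaximal_comap_of_isIntegral_of_isMaximal' i₂.hom hi₂ x.asIdeal
      exact IsLocalRing.eq_maximalIdeal this
    have hsq : ψ ≫ i₁ = φ ≫ i₂ := by
      ext r
      show algebraMap R B r ⊗ₜ[R] (1 : R') = (1 : B) ⊗ₜ[R] algebraMap R R' r
      exact Algebra.TensorProduct.tmul_one_eq_one_tmul r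
    rw [← hc, ← Scheme.Hom.comp_apply, ← Scheme.Hom.comp_apply, ← Spec.map_comp, ← Spec.map_comp,
      hsq]
  have hy : ∀ x : Spec T, pullback.fst g _ (F x) = f (Spec.map i₁ x) := fun x => by
    rw [← Scheme.Hom.comp_apply, hFfst, Scheme.Hom.comp_apply]
  have : IsAffine Yp := by
    refine isAffine_of_labels i₂ hi₂ F F.isClosedMap
      (fun l : ι => pullback.fst g _ ⁻¹ᵁ U l) (fun l => (hUa l).preimage _) (fun l => i₁.hom (b l))
      (fun x hx => ⟨f (Spec.map i₁ x), Finset.mem_image_of_mem _ (hlab x hx)⟩) ?_ ?_ ?_ ?_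
    · intro x hx
      show pullback.fst g _ (F x) ∈ U _
      rw [hy]
      exact hmemU _
    · intro x hx l
      rw [Subtype.ext_iff]
      exact hb l _ (hlab x hx)
    · intro x hx x' hx' he
      exact Subtype.ext ((hy x).symm.trans ((congrArg _ he).trans (hy x')))
    · intro l
      obtain ⟨m, hm⟩ := Polynomial.splits_iff_exists_multiset.mp hsplit
      let j : S →+* R' := algebraMap S (Localization.AtPrime P'.asIdeal)
      refine ⟨m.map j, ?_⟩
      have h0 : Q.eval₂ (i₁.hom.comp ψ.hom) (i₁.hom (b l)) = 0 := by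
        rw [← hom_eval₂]
        have : Q.eval₂ ψ.hom (b l) = 0 := by
          simp only [Q, eval₂_finsetProd]
          exact Finset.prod_eq_zero (Finset.mem_univ l) (hP l)
        rw [this, map_zero]
      have hcomp : i₁.hom.comp ψ.hom = (i₂.hom.comp j).comp (algebraMap R S) := by
        ext r
        show (algebraMap R B r) ⊗ₜ[R] (1 : R') = (1 : B) ⊗ₜ[R] j (algebraMap R S r)
        rw [show j (algebraMap R S r) = algebraMap R R' r from
          (IsScalarTower.algebraMap_apply R S (Localization.AtPrime P'.asIdeal) r).symm]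
        exact Algebra.TensorProduct.tmul_one_eq_one_tmul r
      rw [hcomp, ← eval₂_map, hm] at h0
      simpa [(hQm.map (algebraMap R S)).leadingCoeff, eval₂_multiset_prod, Multiset.map_map,
        Function.comp_def, eval₂_sub] using h0
  infer_instance

/-- A separated quasi-compact `Y → Spec R` dominated surjectively by an integral scheme with finite
fibres is affine. -/
theorem isAffineHom_Spec {R B : CommRingCat.{u}} {Y : Scheme.{u}} (f : Spec B ⟶ Y)
    (g : Y ⟶ Spec R) [Surjective f] [IsSeparated g] [QuasiCompact g] [IsIntegralHom (f ≫ g)]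
    (hfin : ∀ p : Spec R, Set.Finite ((f ≫ g).base ⁻¹' {p})) : IsAffineHom g := by
  obtain ⟨ψ, hψ⟩ := Spec.map_surjective (f ≫ g)
  have hint : ψ.hom.IsIntegral := IsIntegralHom.SpecMap_iff.mp (hψ ▸ inferInstance)
  choose R' φ hflat hp haff using fun p : Spec R =>
    exists_flat_isAffineHom ψ hint f g hψ.symm p (by rw [hψ]; exact hfin p)
  let c : (∐ fun p => Spec (R' p)) ⟶ Spec R := Sigma.desc fun p => Spec.map (φ p)
  haveI : Flat c := by
    rw [IsZariskiLocalAtSource.iff_of_openCover (P := @Flat) (sigmaOpenCover _)]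
    intro p
    change Flat (Sigma.ι (fun p => Spec (R' p)) p ≫ c)
    rw [show Sigma.ι (fun p => Spec (R' p)) p ≫ c = Spec.map (φ p) from Sigma.ι_desc _ _]
    exact hflat p
  haveI : Surjective c := ⟨fun p => by
    obtain ⟨q, hq⟩ := hp p
    exact ⟨Sigma.ι (fun p => Spec (R' p)) p q, by
      rw [← Scheme.Hom.comp_apply, Sigma.ι_desc]; exact hq⟩⟩
  haveI : IsAffineHom (pullback.snd g c) := by
    rw [IsZariskiLocalAtTarget.iff_of_openCover (P := @IsAffineHom) (sigmaOpenCover _)]
    intro p
    let s := Sigma.ι (fun p => Spec (R' p)) p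
    have h : IsAffineHom (pullback.snd g (s ≫ c)) := by
      rw [show s ≫ c = Spec.map (φ p) from Sigma.ι_desc _ _]
      exact haff p
    change IsAffineHom (pullback.snd (pullback.snd g c) s)
    rw [← pullbackLeftPullbackSndIso_hom_snd g c s,
      MorphismProperty.cancel_left_of_respectsIso @IsAffineHom]
    exact h
  exact H23.FFDescent.isAffineHom_of_baseChange g c

/-- A separated morphism receiving a surjection from an integral scheme with finite fibres is
integral. -/
theorem isIntegralHom_of_surjective {X Y S : Scheme.{u}} (f : X ⟶ Y) (g : Y ⟶ S) [Surjective f]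
    [IsSeparated g] [IsIntegralHom (f ≫ g)] (hfin : ∀ s : S, Set.Finite ((f ≫ g).base ⁻¹' {s})) :
    IsIntegralHom g := by
  have : UniversallyClosed g := UniversallyClosed.of_comp_surjective f g
  have : QuasiCompact g := inferInstance
  rw [IsIntegralHom.iff_universallyClosed_and_isAffineHom]
  refine ⟨inferInstance, ?_⟩
  rw [IsZariskiLocalAtTarget.iff_of_iSup_eq_top (P := @IsAffineHom) _
    (iSup_affineOpens_eq_top S)]
  rintro ⟨V, hV⟩
  have : IsAffine V := hV
  let fV := f ∣_ (g ⁻¹ᵁ V)
  have hc : (f ≫ g) ∣_ V = fV ≫ (g ∣_ V) := morphismRestrict_comp f g V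
  haveI : IsIntegralHom (fV ≫ (g ∣_ V)) := by
    rw [← hc]
    exact IsZariskiLocalAtTarget.restrict ‹_› V
  haveI : IsAffine (f ⁻¹ᵁ g ⁻¹ᵁ V : X.Opens) := isAffine_of_isAffineHom (fV ≫ (g ∣_ V))
  haveI : Surjective fV := IsZariskiLocalAtTarget.restrict ‹_› _
  let f' := (f ⁻¹ᵁ g ⁻¹ᵁ V).toScheme.isoSpec.inv ≫ fV
  let g' := (g ∣_ V) ≫ (V.toScheme.isoSpec).hom
  haveI : IsIntegralHom (f' ≫ g') := by
    rw [show f' ≫ g' = (f ⁻¹ᵁ g ⁻¹ᵁ V).toScheme.isoSpec.inv ≫ (fV ≫ (g ∣_ V)) ≫
      V.toScheme.isoSpec.hom from by simp only [f', g', Category.assoc]]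
    infer_instance
  have := isAffineHom_Spec f' g' fun p => by
    let t : V.toScheme := (V.toScheme.isoSpec).inv p
    refine Set.Finite.subset (((hfin (V.ι t)).preimage
      (((f ⁻¹ᵁ g ⁻¹ᵁ V).ι.isOpenEmbedding.injective.comp
        (f ⁻¹ᵁ g ⁻¹ᵁ V).toScheme.isoSpec.inv.isOpenEmbedding.injective).injOn))) ?_
    intro q hq
    simp only [Set.mem_preimage, Set.mem_singleton_iff] at hq ⊢
    simp only [t, Function.comp_apply, ← hq, ← Scheme.Hom.comp_apply]
    simp [f', g', fV]
  rwa [MorphismProperty.cancel_right_of_respectsIso @IsAffineHom] at this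

end Groth.Agent.ZCImage
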